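import Cfsg.Agent.CosetCert.J4Nucleus.FactsData
import Cfsg.Agent.CosetCert.J4Nucleus.JustData
import Cfsg.Agent.CosetCert.CoxExtra
import Cfsg.Agent.CosetCert.Pack

/-! Generated: the certificate. -/

set_option maxRecDepth 100000

namespace Cfsg.Agent.CosetCert.J4Nucleus

noncomputable def data : Data where
  K := 10
  n := 0
  M := 60
  Nf := 206
  nR := 41
  iv := fun x => if x < 5 then x + 5 else if x < 10 then x - 5 else x
  F := get48 factStore
  J := getVar justStore
  E := fun _ => 0
  L := fun _ => 0
  P := fun _ => 0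
  W := [
    [0, 0],
    [1, 1],
    [2, 2],
    [3, 3],
    [4, 4],
    [3, 2, 4, 3, 2, 4],
    [0, 3, 2, 0, 3, 2],
    [0, 3, 0, 3],
    [0, 4, 0, 4],
    [1, 2, 1, 2],
    [0, 1, 2, 0, 1, 2],
    [1, 0, 4, 1, 0, 4],
    [2, 4, 2, 4],
    [1, 3, 1, 3],
    [1, 3, 4, 1, 3, 4],
    [0, 3, 1, 0, 4, 1, 3, 4],
    [0, 3, 2, 0, 1, 2, 1, 3],
    [0, 0, 4, 4],
    [3, 2, 4, 3, 2, 4],
    [1, 2, 1, 2],
    [2, 2, 4, 4],
    [1, 3, 1, 3],
    [0, 1, 2, 0, 1, 2],
    [3, 2, 4, 0, 3, 2, 0, 4],
    [3, 2, 4, 1, 2, 1, 3, 4],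
    [1, 0, 4, 1, 0, 4],
    [0, 0, 3, 3],
    [0, 3, 2, 0, 3, 2],
    [0, 1, 2, 1, 0, 4, 2, 4],
    [1, 3, 1, 3, 4, 4],
    [],
    [0, 5],
    [1, 6],
    [2, 7],
    [3, 8],
    [4, 9],
    [5, 0],
    [6, 1],
    [7, 2],
    [8, 3],
    [9, 4]]
  PW := fun k => Nat.land (Nat.shiftRight 0xaa000000000000008900000000000000680000000000000047000000000000002600000000000001450000000000000124000000000000010300000000000000e200000000000000c10000000000000000000000000a52088200000028ca110c410000000006408c810000000000021021000000000a111422000000290431146400000028464094640000000006208c41000000000002088200000000000294630000000000018862000000000a32146400000000000294210000002086208c810000002904508881000000000a41148200000000000208820000000000028ca3000000000a1114220000000006208c41000000000001886200000000000284a100000000000204810000000006408c81000000000a32146400000000000000a50000000000000084000000000000006300000000000000420000000000000021 (Nat.mul 64 k)) 0xffffffffffffffff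
  powers := [
    ([0, 0], 1),
    ([1, 1], 1),
    ([2, 2], 1),
    ([3, 3], 1),
    ([4, 4], 1),
    ([3, 2, 4, 3, 2, 4], 1),
    ([0, 3, 2, 0, 3, 2], 1),
    ([0, 3, 0, 3], 1),
    ([0, 4, 0, 4], 1),
    ([1, 2, 1, 2], 1),
    ([0, 1, 2, 0, 1, 2], 1),
    ([1, 0, 4, 1, 0, 4], 1),
    ([2, 4, 2, 4], 1),
    ([1, 3, 1, 3], 1),
    ([1, 3, 4, 1, 3, 4], 1),
    ([0, 3, 1, 0, 4, 1, 3, 4], 1),
    ([0, 3, 2, 0, 1, 2, 1, 3], 1),
    ([0, 0, 4, 4], 1),
    ([3, 2, 4, 3, 2, 4], 1),
    ([1, 2, 1, 2], 1),
    ([2, 2, 4, 4], 1),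
    ([1, 3, 1, 3], 1),
    ([0, 1, 2, 0, 1, 2], 1),
    ([3, 2, 4, 0, 3, 2, 0, 4], 1),
    ([3, 2, 4, 1, 2, 1, 3, 4], 1),
    ([1, 0, 4, 1, 0, 4], 1),
    ([0, 0, 3, 3], 1),
    ([0, 3, 2, 0, 3, 2], 1),
    ([0, 1, 2, 1, 0, 4, 2, 4], 1),
    ([1, 3, 1, 3, 4, 4], 1),
    ([], 1),
    ([0, 5], 1),
    ([1, 6], 1),
    ([2, 7], 1),
    ([3, 8], 1),
    ([4, 9], 1),
    ([5, 0], 1),
    ([6, 1], 1),
    ([7, 2], 1),
    ([8, 3], 1),
    ([9, 4], 1)]

/-- The relators. -/
def relWords : List (List (Fin 5 × Bool)) := [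
    [(0, true), (0, true)],
    [(1, true), (1, true)],
    [(2, true), (2, true)],
    [(3, true), (3, true)],
    [(4, true), (4, true)],
    [(3, true), (2, true), (4, true), (3, true), (2, true), (4, true)],
    [(0, true), (3, true), (2, true), (0, true), (3, true), (2, true)],
    [(0, true), (3, true), (0, true), (3, true)],
    [(0, true), (4, true), (0, true), (4, true)],
    [(1, true), (2, true), (1, true), (2, true)],
    [(0, true), (1, true), (2, true), (0, true), (1, true), (2, true)],
    [(1, true), (0, true), (4, true), (1, true), (0, true), (4, true)],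
    [(2, true), (4, true), (2, true), (4, true)],
    [(1, true), (3, true), (1, true), (3, true)],
    [(1, true), (3, true), (4, true), (1, true), (3, true), (4, true)],
    [(0, true), (3, true), (1, true), (0, true), (4, true), (1, true), (3, true), (4, true)],
    [(0, true), (3, true), (2, true), (0, true), (1, true), (2, true), (1, true), (3, true)],
    [(0, true), (0, true), (4, true), (4, true)],
    [(3, true), (2, true), (4, true), (3, true), (2, true), (4, true)],
    [(1, true), (2, true), (1, true), (2, true)],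
    [(2, true), (2, true), (4, true), (4, true)],
    [(1, true), (3, true), (1, true), (3, true)],
    [(0, true), (1, true), (2, true), (0, true), (1, true), (2, true)],
    [(3, true), (2, true), (4, true), (0, true), (3, true), (2, true), (0, true), (4, true)],
    [(3, true), (2, true), (4, true), (1, true), (2, true), (1, true), (3, true), (4, true)],
    [(1, true), (0, true), (4, true), (1, true), (0, true), (4, true)],
    [(0, true), (0, true), (3, true), (3, true)],
    [(0, true), (3, true), (2, true), (0, true), (3, true), (2, true)],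
    [(0, true), (1, true), (2, true), (1, true), (0, true), (4, true), (2, true), (4, true)],
    [(1, true), (3, true), (1, true), (3, true), (4, true), (4, true)]]

/-- The subgroup's generators. -/
def subWords : List (List (Fin 5 × Bool)) := []

/-- The numbering of the generators. -/
def enc (b : Fin 5) : Nat := b.val

/-- The generator of a number. -/
def dec (x : Nat) : Fin 5 × Bool := if x < 5 then (Fin.ofNat 5 x, true) else (Fin.ofNat 5 x, false)

end Cfsg.Agent.CosetCert.J4Nucleus
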