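import Cfsg.Agent.CosetCert.Pack

/-! Generated: the facts of the log. -/

namespace Cfsg.Agent.CosetCert.J4Nucleus

def factStore : Store := (.node 1 (.leaf 0xa0000a00033020000900033020000800032040000300008030000b00003020002a0002f02000110002e040001e0000200000020000e02000040002c03000150000e030001e0002b0100012000040600004000120a0001200020020001e0002607000260001e05000110001e090001e0000204000020001e0a0001e00023000000e0000204000110000e0a000150001f0a000020001d0a0000e00010010000d000030000023000110300015000100200028000150a000150002702000230002604000020002303000020001202000020000d000000200010000001a0000300000070001704000180001a01000050001e030001a0001c020001a0000107000010001a02000010001a0a0001b0001a000000c00005000000900004030001b0001c04000170000a04000010000c03000010000902000010001b01000010000e00000030001a020000c0001800000120001503000050001404000080000301000030000d00000050000c00000040000903000030000b020000500008040000000005030000000004020000000003010000000002000000000001040003c0003b000003b00016000003a0001e02000390001403000380003700000370000801000360000a04000350003403000340000d03000330001a03000320003104000310003002000300000b010002f00025030002e0002d000002d00025010002c00029010002b0002a040002a0000400000290002802000280002703000270001003000260002504000250002402000240001204000230000201000220001701000210001c010002000004030001f0000e040001e0001d000001d0000e000001c00006020001b00001010001a0000f01000190000703000180001700000170000701000160000b010001500009010001400013040001300012030001200002040001100010000001000002020000f0000e010000e00001020000d00002040000c00001000000b0000a020000a00009030000900001030000800007040000700006020000600004040000500000030000400000020000300000010000200000000000100000)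 (.leaf 0x40002200021030002e000220100017000220a000220002d040002d0002101000170002d0a0002d0003c050001e0001109000110000e040000e000110a0003a00011040003c000210a000210003b0000019000220400016000190300019000260300017000180a00017000380000018000080300038000180a00018000370800019000260300026000190600019000070100007000190a000250001901000170003c0900007000060400006000070a00039000070200016000120600016000060a000240001606000240000602000210001506000210000a000000a00006030001a0000a0a00021000280a0000a0001c040000e0003a040000600039010001e00005010000a0002801000260000803000140000507000070001409000140000401000280000a0a00028000360a0002400029050000a000060800006000030100016000060a0000b000060a000140002a0a000040003004000040002a0600029000060700006000040a0002c0000606000250000707000070002a0a000070002f0500036000240a000350002506000240000b0a0003400024000003400036010000700035010000b000340400014000300a00031000140a0003200005000000800018030000a0001a070000a0000902000090000a))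

end Cfsg.Agent.CosetCert.J4Nucleus
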